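import Groth.Agent.JacobsonCrit.Basic

set_option autoImplicit false
universe u

open CategoryTheory CategoryTheory.Limits AlgebraicGeometry Topology TopologicalSpace

namespace Groth.Agent.UnivOpenAtLib

/-- Immediate generizations avoiding a closed set. -/
theorem exists_immediate_prime {R : Type u} [CommRing R] [IsLocalRing R] [IsNoetherianRing R] (p : PrimeSpectrum R)
    (O : Set (PrimeSpectrum R)) (hO : IsOpen O) (hp : p ∈ O) (hm : IsLocalRing.closedPoint R ∉ O) :
    ∃ q : PrimeSpectrum R, q ∈ O ∧ p ≤ q ∧ ∀ r, q ≤ r → r = q ∨ r = IsLocalRing.closedPoint R := by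
  obtain ⟨_, ⟨π, rfl⟩, hπ, hsub⟩ := PrimeSpectrum.isTopologicalBasis_basic_opens.exists_subset_of_mem_open hp hO
  obtain ⟨I, ⟨hI, hpI, hπI⟩, hmax⟩ := set_has_maximal_iff_noetherian.2 ‹IsNoetherianRing R›
    {I : Ideal R | I.IsPrime ∧ p.asIdeal ≤ I ∧ π ∉ I} ⟨p.asIdeal, p.2, le_rfl, hπ⟩
  refine ⟨⟨I, hI⟩, hsub hπI, hpI, fun r hr => ?_⟩
  by_contra h
  push Not at h
  obtain ⟨h1, h2⟩ := h
  haveI := hI
  have hπ0 : Ideal.Quotient.mk I π ≠ 0 := fun h0 => hπI (Ideal.Quotient.eq_zero_iff_mem.1 h0)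
  have hF : IsField (Localization.Away (Ideal.Quotient.mk I π)) := by
    rw [JacobsonCrit.isField_away_iff hπ0]
    intro P hP hne
    by_contra hπP
    haveI := hP
    have hle : I ≤ P.comap (Ideal.Quotient.mk I) := fun x hx => by
      rw [Ideal.mem_comap, Ideal.Quotient.eq_zero_iff_mem.2 hx]; exact zero_mem _
    rcases hle.eq_or_lt with he | hlt
    · exact hne (by rw [← Ideal.map_comap_of_surjective _ Ideal.Quotient.mk_surjective P, ← he, Ideal.map_quotient_self])
    · exact hmax _ ⟨inferInstance, hpI.trans hle, hπP⟩ hlt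
  obtain ⟨-, hdim⟩ := (((JacobsonCrit.tfae_artinTate (B := R ⧸ I)).out 0 2
    (a := ∃ f : R ⧸ I, f ≠ 0 ∧ IsField (Localization.Away f))
    (b := Finite (MaximalSpectrum (R ⧸ I)) ∧ ringKrullDim (R ⧸ I) ≤ 1))).1 ⟨_, hπ0, hF⟩
  haveI : Ring.KrullDimLE 1 (R ⧸ I) := Ring.krullDimLE_iff.2 hdim
  have hlt : I < r.asIdeal := (show I ≤ r.asIdeal from hr).lt_of_ne fun he => h1 (PrimeSpectrum.ext he.symm)
  have hne : r.asIdeal.map (Ideal.Quotient.mk I) ≠ ⊥ := by
    rw [Ne, Ideal.map_eq_bot_iff_le_ker, Ideal.mk_ker]; exact hlt.not_ge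
  haveI : (r.asIdeal.map (Ideal.Quotient.mk I)).IsPrime :=
    Ideal.map_isPrime_of_surjective Ideal.Quotient.mk_surjective (by rw [Ideal.mk_ker]; exact hlt.le)
  haveI hmx : (r.asIdeal.map (Ideal.Quotient.mk I)).IsMaximal :=
    Ideal.IsPrime.isMaximal_of_ne_bot inferInstance hne
  have hmr : r.asIdeal.IsMaximal := by
    have := Ideal.comap_isMaximal_of_surjective (Ideal.Quotient.mk I) Ideal.Quotient.mk_surjective
      (K := r.asIdeal.map (Ideal.Quotient.mk I))
    rwa [Ideal.comap_map_of_surjective _ Ideal.Quotient.mk_surjective, ← RingHom.ker_eq_comap_bot,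
      Ideal.mk_ker, sup_eq_left.2 hlt.le] at this
  exact h2 (PrimeSpectrum.ext (IsLocalRing.eq_maximalIdeal hmr))

theorem exists_immediate {T : Scheme.{u}} [IsLocallyNoetherian T] {y'' y0 : T} (h : y'' ⤳ y0)
    (O : Set T) (hO : IsOpen O) (hy : y'' ∈ O) (hy0 : y0 ∉ O) :
    ∃ q : T, q ∈ O ∧ y'' ⤳ q ∧ q ⤳ y0 ∧ ∀ r, q ⤳ r → r ⤳ y0 → r = q ∨ r = y0 := by
  let j := T.fromSpecStalk y0
  have hr : ∀ t, t ⤳ y0 → ∃ s, j.base s = t := fun t ht => by
    show t ∈ Set.range j.base; rw [Scheme.range_fromSpecStalk]; exact ht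
  obtain ⟨p, rfl⟩ := hr _ h
  have hcl : j.base (IsLocalRing.closedPoint (T.presheaf.stalk y0)) = y0 := Scheme.fromSpecStalk_closedPoint
  have hsp : ∀ a b : PrimeSpectrum (T.presheaf.stalk y0), j.base a ⤳ j.base b ↔ a ≤ b := fun a b =>
    (j.isEmbedding.isInducing.specializes_iff).trans
      (PrimeSpectrum.le_iff_specializes (R := T.presheaf.stalk y0) a b).symm
  obtain ⟨q, hqO, hpq, himm⟩ := exists_immediate_prime (R := T.presheaf.stalk y0) p (j.base ⁻¹' O)
    (hO.preimage j.continuous) hy (fun hc => hy0 (hcl ▸ hc))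
  refine ⟨j.base q, hqO, (hsp _ _).2 hpq, ?_, fun r hqr hr0 => ?_⟩
  · have : j.base q ∈ Set.range j.base := ⟨q, rfl⟩
    rwa [Scheme.range_fromSpecStalk] at this
  · obtain ⟨r, rfl⟩ := hr r hr0
    rcases himm r ((hsp _ _).1 hqr) with rfl | rfl
    · exact Or.inl rfl
    · exact Or.inr hcl

/-- A closed point without proper generizations is open in a Noetherian quasi-sober space. -/
theorem isOpen_singleton_of_generization {X : Type*} [TopologicalSpace X] [NoetherianSpace X] [QuasiSober X]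
    [T0Space X] (c : X) (hc : IsClosed ({c} : Set X)) (h : ∀ g, g ⤳ c → g = c) : IsOpen ({c} : Set X) := by
  have hone : ∀ Z ∈ irreducibleComponents X, c ∈ Z → Z = {c} := by
    intro Z hZ hcZ
    obtain ⟨g, hg⟩ := QuasiSober.sober hZ.1 (isClosed_of_mem_irreducibleComponents Z hZ)
    have hgc := h g (hg.specializes hcZ)
    rw [← hg.def, hgc, hc.closure_eq]
  have hU : ({c} : Set X) = (⋃ Z ∈ irreducibleComponents X \ {{c}}, Z)ᶜ := by
    ext x
    simp only [Set.mem_singleton_iff, Set.mem_compl_iff, Set.mem_iUnion₂, not_exists]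
    constructor
    · rintro rfl Z ⟨hZ, hne⟩ hxZ
      exact hne (hone Z hZ hxZ)
    · intro hx
      by_contra hne
      refine hne ?_
      by_cases hI : irreducibleComponent x = {c}
      · exact (hI ▸ mem_irreducibleComponent : x ∈ ({c} : Set X))
      · exact (hx _ ⟨irreducibleComponent_mem_irreducibleComponents x, hI⟩ mem_irreducibleComponent).elim
  rw [hU, isOpen_compl_iff]
  exact (NoetherianSpace.finite_irreducibleComponents.sdiff).isClosed_biUnion
    fun Z hZ => isClosed_of_mem_irreducibleComponents Z hZ.1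

/-- A point of a constructible set has a neighbourhood in its closure contained in the set. -/
theorem exists_open_closure_inter_subset {X : Type*} [TopologicalSpace X] [NoetherianSpace X] (y : X) (E : Set X)
    (hE : IsConstructible E) (hy : y ∈ E) : ∃ O : Set X, IsOpen O ∧ y ∈ O ∧ O ∩ closure {y} ⊆ E := by
  suffices H : ∃ O : Set X, IsOpen O ∧ y ∈ O ∧ ∀ z ∈ O ∩ closure {y}, (z ∈ E ↔ y ∈ E) by
    obtain ⟨O, h1, h2, h3⟩ := H
    exact ⟨O, h1, h2, fun z hz => (h3 z hz).2 hy⟩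
  clear hy
  induction hE using IsConstructible.empty_union_induction with
  | open_retrocompact U hU _ =>
    by_cases hy : y ∈ U
    · exact ⟨U, hU, hy, fun z hz => iff_of_true hz.1 hy⟩
    · exact ⟨Set.univ, isOpen_univ, trivial, fun z hz => iff_of_false
        (fun hzU => hy ((specializes_iff_mem_closure.2 hz.2).mem_open hU hzU)) hy⟩
  | union s _ t _ hs ht =>
    obtain ⟨O, h1, h2, h3⟩ := hs; obtain ⟨O', h1', h2', h3'⟩ := ht
    exact ⟨O ∩ O', h1.inter h1', ⟨h2, h2'⟩, fun z hz =>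
      or_congr (h3 z ⟨hz.1.1, hz.2⟩) (h3' z ⟨hz.1.2, hz.2⟩)⟩
  | compl s _ hs =>
    obtain ⟨O, h1, h2, h3⟩ := hs
    exact ⟨O, h1, h2, fun z hz => not_congr (h3 z hz)⟩

end Groth.Agent.UnivOpenAtLib
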