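import Groth.Agent.UnivOpenAtLib.Affine
import Groth.Agent.DomDVR.Dominate

/-!
The valuative criterion for universal openness at a point.
-/

set_option autoImplicit false
universe u

open CategoryTheory CategoryTheory.Limits AlgebraicGeometry Topology

namespace Groth.Agent.UnivOpenAtLib

open EGA43

variable {X Y : Scheme.{u}}

/-- Generisations in a locally Noetherian scheme are realised by discrete valuation rings. -/
theorem exists_dvr_specialization {T : Scheme.{u}} [IsLocallyNoetherian T] {y' y'' : T} (h : y'' ⤳ y') (hne : y'' ≠ y') :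
    ∃ (A : Type u) (_ : CommRing A) (_ : IsDomain A) (_ : IsDiscreteValuationRing A) (g : Spec (CommRingCat.of A) ⟶ T),
      g.base (IsLocalRing.closedPoint A) = y' ∧
      ∀ z : Spec (CommRingCat.of A), z ≠ IsLocalRing.closedPoint A → g.base z = y'' := by
  obtain ⟨U, hU, hyU, -⟩ := exists_isAffineOpen_mem_and_subset (TopologicalSpace.Opens.mem_top y')
  obtain ⟨q, hq⟩ : y' ∈ Set.range hU.fromSpec.base := by rw [hU.range_fromSpec]; exact hyU
  obtain ⟨p, hp⟩ : y'' ∈ Set.range hU.fromSpec.base := by rw [hU.range_fromSpec]; exact h.mem_open U.2 hyU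
  have hle : p.asIdeal ≤ q.asIdeal := (PrimeSpectrum.le_iff_specializes (R := Γ(T, U)) p q).2
    (hU.fromSpec.isOpenEmbedding.isInducing.specializes_iff.1 (by rw [hp, hq]; exact h))
  have hlt : p.asIdeal < q.asIdeal := hle.lt_of_ne fun he => hne (by rw [← hp, ← hq, PrimeSpectrum.ext he])
  haveI : IsNoetherianRing Γ(T, U) := IsLocallyNoetherian.component_noetherian ⟨U, hU⟩
  obtain ⟨B, _, _, _, φ, hker, hmax⟩ := DomDVR.exists_dvr_specialization p.asIdeal q.asIdeal hlt
  refine ⟨B, inferInstance, inferInstance, inferInstance, Spec.map (CommRingCat.ofHom φ) ≫ hU.fromSpec, ?_, fun z hz => ?_⟩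
  · show hU.fromSpec.base (PrimeSpectrum.comap φ (IsLocalRing.closedPoint B)) = y'
    rw [← hq]; congr 1; exact PrimeSpectrum.ext hmax
  · show hU.fromSpec.base (PrimeSpectrum.comap φ z) = y''
    rw [← hp]; congr 1
    refine PrimeSpectrum.ext ?_
    have hz0 : z.asIdeal = ⊥ := by
      by_contra h0
      haveI := IsPrime.to_maximal_ideal h0
      exact hz (PrimeSpectrum.ext (IsLocalRing.eq_maximalIdeal this))
    show z.asIdeal.comap φ = p.asIdeal
    rw [hz0, ← RingHom.ker_eq_comap_bot]; exact hker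

/-- The generization-lifting condition over discrete valuation rings. -/
def DvrLifts (f : X ⟶ Y) (x : X) : Prop :=
  ∀ (A : Type u) [CommRing A] [IsDomain A] [IsDiscreteValuationRing A]
    (g : Spec (CommRingCat.of A) ⟶ Y), g.base (IsLocalRing.closedPoint A) = f.base x →
    ∀ x' : ↥(pullback f g), (pullback.fst f g).base x' = x →
      (pullback.snd f g).base x' = IsLocalRing.closedPoint A →
      ∃ z' : ↥(pullback f g), z' ⤳ x' ∧ (pullback.snd f g).base z' ≠ IsLocalRing.closedPoint A

theorem dvrLifts_of_univOpenAt (f : X ⟶ Y) (x : X) (h : IsUnivOpenAt f x) : DvrLifts f x := by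
  intro A _ _ _ g _ x' hx' hc
  obtain ⟨η, hη⟩ : ∃ η : Spec (CommRingCat.of A), η ≠ IsLocalRing.closedPoint A :=
    ⟨⟨⊥, Ideal.isPrime_bot⟩, fun he => IsDiscreteValuationRing.not_a_field A (congrArg PrimeSpectrum.asIdeal he).symm⟩
  obtain ⟨z', hz', hz'η⟩ := (Groth.Agent.S3404.result (pullback.snd f g) x').1 (h _ g x' hx') η
    (by rw [hc]; exact IsLocalRing.specializes_closedPoint η)
  exact ⟨z', hz', by rw [hz'η]; exact hη⟩

theorem univOpenAt_of_dvrLifts [IsLocallyNoetherian Y] (f : X ⟶ Y) [LocallyOfFiniteType f] (x : X)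
    (h : DvrLifts f x) : IsUnivOpenAt f x := by
  refine univOpenAt_of_affineSpace f x fun n z hz => ?_
  let σ := ULift.{u} (Fin n)
  have sqA : IsPullback (𝔸(σ; X) ↘ X) (AffineSpace.map σ f) f (𝔸(σ; Y) ↘ Y) :=
    (AffineSpace.isPullback_map (n := σ) f).flip
  haveI : LocallyOfFiniteType (AffineSpace.map σ f) := MorphismProperty.of_isPullback sqA ‹LocallyOfFiniteType f›
  haveI : IsLocallyNoetherian 𝔸(σ; Y) := LocallyOfFiniteType.isLocallyNoetherian (𝔸(σ; Y) ↘ Y)
  haveI : LocallyOfFinitePresentation (AffineSpace.map σ f) :=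
    LocallyOfFinitePresentation.iff_locallyOfFiniteType.2 inferInstance
  refine ((Groth.Agent.S3404.result (AffineSpace.map σ f) z).2 inferInstance).2 fun y'' hy'' => ?_
  by_cases hne : y'' = (AffineSpace.map σ f).base z
  · exact ⟨z, specializes_rfl, hne.symm⟩
  obtain ⟨A, _, _, _, g, hgc, hgη⟩ := exists_dvr_specialization hy'' hne
  obtain ⟨q, hq1, hq2⟩ := Scheme.Pullback.exists_preimage_pullback (f := AffineSpace.map σ f) (g := g) z
    (IsLocalRing.closedPoint A) hgc.symm
  have sqB := IsPullback.of_hasPullback (AffineSpace.map σ f) g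
  have sq := sqB.paste_horiz sqA
  let e := sq.isoPullback
  have h1 : (pullback.fst f (g ≫ (𝔸(σ; Y) ↘ Y))).base (e.hom.base q) = x := by
    rw [← Scheme.Hom.comp_apply, sq.isoPullback_hom_fst, Scheme.Hom.comp_apply, hq1, hz]
  have h2 : (pullback.snd f (g ≫ (𝔸(σ; Y) ↘ Y))).base (e.hom.base q) = IsLocalRing.closedPoint A := by
    rw [← Scheme.Hom.comp_apply, sq.isoPullback_hom_snd, hq2]
  have h3 : (g ≫ (𝔸(σ; Y) ↘ Y)).base (IsLocalRing.closedPoint A) = f.base x := by
    rw [Scheme.Hom.comp_apply, hgc, ← Scheme.Hom.comp_apply, ← sqA.w, Scheme.Hom.comp_apply, hz]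
  obtain ⟨z', hz', hne'⟩ := h A (g ≫ (𝔸(σ; Y) ↘ Y)) h3 _ h1 h2
  refine ⟨(pullback.fst (AffineSpace.map σ f) g).base (e.inv.base z'), ?_, ?_⟩
  · have := (hz'.map e.inv.continuous).map (pullback.fst (AffineSpace.map σ f) g).continuous
    rw [← Scheme.Hom.comp_apply e.hom e.inv, e.hom_inv_id] at this
    exact hq1 ▸ this
  · rw [← Scheme.Hom.comp_apply, sqB.w, Scheme.Hom.comp_apply]
    refine hgη _ fun he => hne' ?_
    rw [← he, ← Scheme.Hom.comp_apply, sq.isoPullback_inv_snd]

theorem universallyOpen_iff_forall {f : X ⟶ Y} : UniversallyOpen f ↔ ∀ x, IsUnivOpenAt f x := by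
  constructor
  · intro h x Y' g x' _ U hU
    exact (pullback.snd f g).isOpenMap.image_mem_nhds hU
  · intro h
    refine ⟨MorphismProperty.universally_mk' _ _ fun {T} t _ => IsOpenMap.of_nhds_le fun p => ?_⟩
    intro S hS
    have hp := isOpenAt_of_isPullback (h ((pullback.snd t f).base p)) (IsPullback.of_hasPullback t f).flip p rfl
    exact Filter.mem_of_superset (hp _ hS) (Set.image_preimage_subset _ _)

theorem dense_iff_generic {f : X ⟶ Y} {A : Type u} [CommRing A] [IsDomain A] [IsDiscreteValuationRing A]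
    (g : Spec (CommRingCat.of A) ⟶ Y) {Z : Set ↥(pullback f g)} {c : ↥(pullback f g)} (hc : IsGenericPoint c Z) :
    Dense ((pullback.snd f g).base '' Z) ↔ (pullback.snd f g).base c ≠ IsLocalRing.closedPoint A := by
  constructor
  · intro hd he
    have hsub : (pullback.snd f g).base '' Z ⊆ {(IsLocalRing.closedPoint A : Spec (CommRingCat.of A))} := by
      rintro _ ⟨w, hw, rfl⟩
      have h1 := (hc.specializes hw).map (pullback.snd f g).continuous
      rw [he] at h1
      exact h1.mem_closed (IsLocalRing.isClosed_singleton_closedPoint A) rfl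
    have h2 := hd.mono hsub (⟨⊥, Ideal.isPrime_bot⟩ : Spec (CommRingCat.of A))
    replace h2 := (IsLocalRing.isClosed_singleton_closedPoint A).closure_eq.subset h2
    exact IsDiscreteValuationRing.not_a_field A (congrArg PrimeSpectrum.asIdeal (Set.mem_singleton_iff.1 h2)).symm
  · intro hne w
    have h0 : ((pullback.snd f g).base c).asIdeal = ⊥ := by
      by_contra h0
      haveI := IsPrime.to_maximal_ideal h0
      exact hne (PrimeSpectrum.ext (IsLocalRing.eq_maximalIdeal this))
    have hs : (pullback.snd f g).base c ⤳ w :=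
      (PrimeSpectrum.le_iff_specializes (R := A) _ w).1 (by show ((pullback.snd f g).base c).asIdeal ≤ w.asIdeal; rw [h0]; exact bot_le)
    exact hs.mem_closed isClosed_closure (subset_closure ⟨c, hc.mem, rfl⟩)

theorem forall_univOpenAt_fibre_iff [IsLocallyNoetherian Y] (f : X ⟶ Y) [LocallyOfFiniteType f] (y : Y) :
    (∀ x : X, f.base x = y → IsUnivOpenAt f x) ↔
      ∀ (A : Type u) [CommRing A] [IsDomain A] [IsDiscreteValuationRing A] (g : Spec (CommRingCat.of A) ⟶ Y),
        g.base (IsLocalRing.closedPoint A) = y →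
        ∀ Z ∈ irreducibleComponents (↥(pullback f g) : Type u), Dense ((pullback.snd f g).base '' Z) := by
  constructor
  · intro h A _ _ _ g hg Z hZ
    obtain ⟨c, hc⟩ := QuasiSober.sober hZ.1 (isClosed_of_mem_irreducibleComponents Z hZ)
    rw [dense_iff_generic g hc]
    intro hcl
    have hfy : f.base ((pullback.fst f g).base c) = y := by
      rw [← Scheme.Hom.comp_apply, pullback.condition, Scheme.Hom.comp_apply, hcl, hg]
    obtain ⟨z', hz', hne⟩ := dvrLifts_of_univOpenAt f _ (h _ hfy) A g (hg.trans hfy.symm) c rfl hcl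
    have hle : Z ⊆ closure {z'} := by
      rw [← hc.def]; exact closure_minimal (Set.singleton_subset_iff.2 (specializes_iff_mem_closure.1 hz')) isClosed_closure
    have hz : IsGenericPoint z' Z := (hZ.2 isIrreducible_singleton.closure hle).antisymm hle
    exact hne ((hc.eq hz) ▸ hcl)
  · intro h x hx
    refine univOpenAt_of_dvrLifts f x fun A _ _ _ g hg x' hx' hc => ?_
    obtain ⟨c, hcg⟩ := QuasiSober.sober (irreducibleComponent_mem_irreducibleComponents x').1 (isClosed_irreducibleComponent (x := x'))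
    exact ⟨c, hcg.specializes mem_irreducibleComponent,
      (dense_iff_generic g hcg).1 (h A g (hg.trans hx) _ (irreducibleComponent_mem_irreducibleComponents x'))⟩

end Groth.Agent.UnivOpenAtLib
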