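import Groth.Agent.S3404
import Groth.Prelude.Def_EGA43
import Mathlib

/-!
Morphisms universally open at a point: base change, composition, descent along closed surjections.
-/

set_option autoImplicit false
universe u

open CategoryTheory CategoryTheory.Limits AlgebraicGeometry Topology

namespace Groth.Agent.UnivOpenAtLib

open EGA43

theorem isOpenAt_comp {α β γ : Type*} [TopologicalSpace α] [TopologicalSpace β] [TopologicalSpace γ] {f : α → β}
    {g : β → γ} {x : α} (hf : IsOpenAt f x) (hg : IsOpenAt g (f x)) : IsOpenAt (g ∘ f) x := fun U hU => by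
  rw [Set.image_comp]; exact hg _ (hf U hU)

theorem isOpenAt_of_comp {α β γ : Type*} [TopologicalSpace α] [TopologicalSpace β] [TopologicalSpace γ] {f : α → β}
    {g : β → γ} {x : α} (hf : ContinuousAt f x) (h : IsOpenAt (g ∘ f) x) : IsOpenAt g (f x) := fun V hV => by
  refine Filter.mem_of_superset (h _ (hf hV)) ?_
  rw [Set.image_comp]
  exact Set.image_mono (Set.image_preimage_subset f V)

variable {X Y Z Y' P : Scheme.{u}}

/-- A morphism universally open at `x` is open at the points over `x` of any cartesian square. -/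
theorem isOpenAt_of_isPullback {f : X ⟶ Y} {x : X} (h : IsUnivOpenAt f x) {fst : P ⟶ X} {snd : P ⟶ Y'} {g : Y' ⟶ Y}
    (sq : IsPullback fst snd f g) (p : P) (hp : fst.base p = x) : IsOpenAt snd.base p := by
  have h1 : (pullback.fst f g).base (sq.isoPullback.hom.base p) = x := by
    rw [← Scheme.Hom.comp_apply, sq.isoPullback_hom_fst]; exact hp
  intro U hU
  have h2 := h Y' g _ h1 (sq.isoPullback.hom.base '' U) (sq.isoPullback.hom.isOpenEmbedding.isOpenMap.image_mem_nhds hU)
  rwa [← Scheme.Hom.comp_apply, sq.isoPullback_hom_snd, ← Set.image_comp, ← TopCat.coe_comp, ← Scheme.Hom.comp_base,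
    sq.isoPullback_hom_snd] at h2

theorem univOpenAt_baseChange {f : X ⟶ Y} {x : X} (h : IsUnivOpenAt f x) {fst : P ⟶ X} {snd : P ⟶ Y'} {g : Y' ⟶ Y}
    (sq : IsPullback fst snd f g) (p : P) (hp : fst.base p = x) : IsUnivOpenAt snd p := by
  intro Z k z hz
  refine isOpenAt_of_isPullback h ((IsPullback.of_hasPullback snd k).paste_horiz sq) z ?_
  rw [Scheme.Hom.comp_apply, hz, hp]

theorem univOpenAt_comp {f : X ⟶ Y} {g : Y ⟶ Z} {x : X} (hf : IsUnivOpenAt f x) (hg : IsUnivOpenAt g (f.base x)) :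
    IsUnivOpenAt (f ≫ g) x := by
  intro Z' k z hz
  have sq := IsPullback.of_hasPullback (f ≫ g) k
  have t := IsPullback.of_hasPullback g k
  let m : pullback (f ≫ g) k ⟶ pullback g k :=
    t.lift (pullback.fst _ _ ≫ f) (pullback.snd _ _) (by rw [Category.assoc]; exact sq.w)
  have s : IsPullback (pullback.fst (f ≫ g) k) m f (pullback.fst g k) :=
    IsPullback.of_bot' sq t
  have h1 : (pullback.fst g k).base (m.base z) = f.base x := by
    rw [← Scheme.Hom.comp_apply, IsPullback.lift_fst, Scheme.Hom.comp_apply, hz]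
  have h2 := isOpenAt_comp (isOpenAt_of_isPullback hf s z hz) (hg Z' k (m.base z) h1)
  rwa [← TopCat.coe_comp, ← Scheme.Hom.comp_base, IsPullback.lift_snd] at h2

theorem univOpenAt_of_comp {f : X ⟶ Y} {g : Y ⟶ Z} {x : X} (h : IsUnivOpenAt (f ≫ g) x) :
    IsUnivOpenAt g (f.base x) := by
  intro Z' k z hz
  obtain ⟨p, hp1, hp2⟩ := Scheme.Pullback.exists_preimage_pullback (f := f) (g := pullback.fst g k) x z hz.symm
  have s := (IsPullback.of_hasPullback f (pullback.fst g k)).paste_vert (IsPullback.of_hasPullback g k)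
  have h1 := isOpenAt_of_isPullback h s p hp1
  rw [Scheme.Hom.comp_base, TopCat.coe_comp] at h1
  have h2 := isOpenAt_of_comp (Scheme.Hom.continuous _).continuousAt h1
  rwa [hp2] at h2

theorem isOpenAt_of_closedMap {Y₁ : Scheme.{u}} {v : Y₁ ⟶ Y} (hv : IsClosedMap v.base) [Surjective v] {f : X ⟶ Y}
    {x : X} {fst : P ⟶ X} {snd : P ⟶ Y₁} (sq : IsPullback fst snd f v)
    (h : ∀ p : P, fst.base p = x → IsOpenAt snd.base p) : IsOpenAt f.base x := by
  intro U hU
  obtain ⟨W, hWU, hW, hxW⟩ := mem_nhds_iff.1 hU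
  refine Filter.mem_of_superset ?_ (Set.image_mono hWU)
  have hint : ∀ y₁ : Y₁, v.base y₁ = f.base x → y₁ ∈ interior (snd.base '' (fst.base ⁻¹' W)) := by
    intro y₁ hy
    obtain ⟨p, hp1, hp2⟩ := Scheme.Pullback.exists_preimage_pullback (f := f) (g := v) x y₁ hy.symm
    have h1 : fst.base (sq.isoPullback.inv.base p) = x := by
      rw [← Scheme.Hom.comp_apply, sq.isoPullback_inv_fst]; exact hp1
    have h2 : snd.base (sq.isoPullback.inv.base p) = y₁ := by
      rw [← Scheme.Hom.comp_apply, sq.isoPullback_inv_snd]; exact hp2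
    rw [← h2]
    exact mem_interior_iff_mem_nhds.2 (h _ h1 _ ((hW.preimage fst.continuous).mem_nhds (show fst.base _ ∈ W by rw [h1]; exact hxW)))
  rw [mem_nhds_iff]
  refine ⟨(v.base '' (interior (snd.base '' (fst.base ⁻¹' W)))ᶜ)ᶜ, ?_,
    (hv _ isOpen_interior.isClosed_compl).isOpen_compl, fun ⟨y₁, hy₁, hy⟩ => hy₁ (hint y₁ hy)⟩
  intro y hy
  obtain ⟨y₁, rfl⟩ := v.surjective y
  obtain ⟨p, hp, rfl⟩ := interior_subset (by_contra fun hn => hy ⟨y₁, hn, rfl⟩ : y₁ ∈ interior (snd.base '' (fst.base ⁻¹' W)))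
  exact ⟨fst.base p, hp, by rw [← Scheme.Hom.comp_apply, sq.w, Scheme.Hom.comp_apply]⟩

theorem univOpenAt_of_universallyClosed {Y₁ : Scheme.{u}} (v : Y₁ ⟶ Y) [UniversallyClosed v] [Surjective v] (f : X ⟶ Y)
    (x : X) (h : ∀ x₁ : ↥(pullback f v), (pullback.fst f v).base x₁ = x → IsUnivOpenAt (pullback.snd f v) x₁) :
    IsUnivOpenAt f x := by
  intro Y' g x' hx'
  haveI : Surjective (pullback.fst g v) := MorphismProperty.pullback_fst _ _ inferInstance
  have sqB := (IsPullback.of_hasPullback (pullback.snd f g) (pullback.fst g v)).paste_horiz (IsPullback.of_hasPullback f g)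
  rw [pullback.condition] at sqB
  have sqT := IsPullback.of_hasPullback f v
  refine isOpenAt_of_closedMap (v := pullback.fst g v) (Scheme.Hom.isClosedMap _)
    (IsPullback.of_hasPullback (pullback.snd f g) (pullback.fst g v)) fun p hp => ?_
  refine isOpenAt_of_isPullback (h _ ?_) (IsPullback.of_right' sqB sqT) p rfl
  rw [← Scheme.Hom.comp_apply, IsPullback.lift_fst, Scheme.Hom.comp_apply, hp, hx']

theorem univOpenAt_iff_fromSpecStalk (f : X ⟶ Y) [LocallyOfFinitePresentation f]
    (x : X) (x₁ : ↥(pullback f (Y.fromSpecStalk (f.base x))))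
    (hx₁ : (pullback.fst f (Y.fromSpecStalk (f.base x))).base x₁ = x) :
    IsUnivOpenAt f x ↔ IsUnivOpenAt (pullback.snd f (Y.fromSpecStalk (f.base x))) x₁ := by
  refine ⟨fun h => univOpenAt_baseChange h (IsPullback.of_hasPullback _ _) x₁ hx₁, fun h Y' g x' hx' => ?_⟩
  refine ((Groth.Agent.S3404.result (pullback.snd f g) x').2 inferInstance).2 fun y'' hy'' => ?_
  have hgy : g.base ((pullback.snd f g).base x') = f.base x := by
    rw [← Scheme.Hom.comp_apply, ← pullback.condition, Scheme.Hom.comp_apply, hx']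
  let y' := (pullback.snd f g).base x'
  let j := Y'.fromSpecStalk y'
  obtain ⟨k, hk⟩ : ∃ k : Spec (Y'.presheaf.stalk y') ⟶ Spec (Y.presheaf.stalk (f.base x)),
      k ≫ Y.fromSpecStalk (f.base x) = j ≫ g := by
    rw [← hgy]; exact ⟨Spec.map (g.stalkMap y'), Scheme.SpecMap_stalkMap_fromSpecStalk g⟩
  obtain ⟨s', hs'⟩ : y' ∈ Set.range j.base := by rw [Scheme.range_fromSpecStalk]; exact specializes_rfl
  obtain ⟨s'', hs''⟩ : y'' ∈ Set.range j.base := by rw [Scheme.range_fromSpecStalk]; exact hy''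
  obtain ⟨q, hq1, hq2⟩ := Scheme.Pullback.exists_preimage_pullback (f := pullback.snd f g) (g := j) x' s' hs'.symm
  have sqB := (IsPullback.of_hasPullback (pullback.snd f g) j).paste_horiz (IsPullback.of_hasPullback f g)
  rw [← hk] at sqB
  have sqT := IsPullback.of_hasPullback f (Y.fromSpecStalk (f.base x))
  have hopen : IsOpenAt (pullback.snd (pullback.snd f g) j).base q := by
    refine isOpenAt_of_isPullback h (IsPullback.of_right' sqB sqT) q ?_
    refine (pullback.fst f (Y.fromSpecStalk (f.base x))).isEmbedding.injective ?_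
    rw [← Scheme.Hom.comp_apply, IsPullback.lift_fst, Scheme.Hom.comp_apply, hq1, hx', hx₁]
  obtain ⟨q'', hqq, hq''⟩ := (Groth.Agent.S3404.result _ q).1 hopen s''
    (by rw [hq2]; exact j.isEmbedding.isInducing.specializes_iff.1 (by rw [hs', hs'']; exact hy''))
  refine ⟨(pullback.fst (pullback.snd f g) j).base q'', hq1 ▸ hqq.map (Scheme.Hom.continuous _), ?_⟩
  rw [← Scheme.Hom.comp_apply, pullback.condition, Scheme.Hom.comp_apply, hq'', hs'']

end Groth.Agent.UnivOpenAtLib
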