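import Groth.Agent.UnivOpenAtLib.Dvr
import Groth.Agent.UnivOpenAtLib.Immediate
import Groth.Agent.FinExtend.ZMT
import Groth.Agent.S3403
import Groth.Agent.S3404

/-!
Universal openness is tested by finite morphisms.
-/

set_option autoImplicit false
universe u

open CategoryTheory CategoryTheory.Limits AlgebraicGeometry Topology TopologicalSpace

namespace Groth.Agent.UnivOpenAtLib

open EGA43

variable {X Y T : Scheme.{u}}

/-- The finite test at a point. -/
def FiniteOpen (f : X ⟶ Y) (x : X) : Prop :=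
  ∀ (Y' : Scheme.{u}) (g : Y' ⟶ Y) [IsFinite g], ∀ x' : ↥(pullback f g), (pullback.fst f g).base x' = x →
    IsOpenAt (pullback.snd f g).base x'

/-- Closed points of the fibre of `pT` in an open image containing `y'`. -/
theorem exists_closed_fibre_point {f : X ⟶ Y} {pT : T ⟶ Y} [LocallyOfFiniteType pT] (x : X) {XT : Scheme.{u}}
    {pX : XT ⟶ X} {F : XT ⟶ T} (sq : IsPullback pX F f pT) (z : XT) (hz : pX.base z = x) (W : Set XT)
    (hW : IsOpen W) (hzW : z ∈ W) :
    (∀ r : T, pT.base r = f.base x → r ⤳ F.base z → r ∈ F.base '' W) ∧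
    ∃ z0 ∈ W, pX.base z0 = x ∧ F.base z ⤳ F.base z0 ∧
      ∀ r : T, pT.base r = f.base x → F.base z0 ⤳ r → r = F.base z0 := by
  let y := f.base x
  let k : Spec (X.residueField x) ⟶ Spec (Y.residueField y) := Spec.map (f.residueFieldMap x)
  have hk : k ≫ Y.fromSpecResidueField y = X.fromSpecResidueField x ≫ f :=
    Scheme.Hom.SpecMap_residueFieldMap_fromSpecResidueField f x
  haveI : Subsingleton ↥(Spec (Y.residueField y)) := inferInstanceAs (Subsingleton (PrimeSpectrum _))
  haveI : UniversallyOpen k := inferInstance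
  let Gx := pullback pX (X.fromSpecResidueField x)
  have sG : IsPullback (pullback.fst pX (X.fromSpecResidueField x)) (pullback.snd pX (X.fromSpecResidueField x)) pX
      (X.fromSpecResidueField x) := IsPullback.of_hasPullback _ _
  have sT : IsPullback (pT.fiberι y) (pT.fiberToSpecResidueField y) pT (Y.fromSpecResidueField y) :=
    IsPullback.of_hasPullback _ _
  have sP := sG.flip.paste_vert sq
  rw [← hk] at sP
  have sm := IsPullback.of_right' sP.flip sT
  let m := sT.lift (pullback.fst pX (X.fromSpecResidueField x) ≫ F) (pullback.snd pX (X.fromSpecResidueField x) ≫ k)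
    (by rw [Category.assoc (pullback.snd pX _)]; exact sP.flip.w)
  haveI : UniversallyOpen m := MorphismProperty.of_isPullback sm.flip ‹UniversallyOpen k›
  have hmι : ∀ p, (pT.fiberι y).base (m.base p) = F.base ((pullback.fst pX (X.fromSpecResidueField x)).base p) := by
    intro p
    rw [← Scheme.Hom.comp_apply, IsPullback.lift_fst, Scheme.Hom.comp_apply]
  have hxr : ∀ p : Gx, pX.base ((pullback.fst pX (X.fromSpecResidueField x)).base p) = x := fun p => by
    rw [← Scheme.Hom.comp_apply, pullback.condition, Scheme.Hom.comp_apply, Scheme.fromSpecResidueField_apply]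
  obtain ⟨p, hp⟩ : z ∈ Set.range (pullback.fst pX (X.fromSpecResidueField x)).base := by
    rw [Scheme.Pullback.range_fst, Scheme.range_fromSpecResidueField]; exact hz
  let V := m.base '' ((pullback.fst pX (X.fromSpecResidueField x)).base ⁻¹' W)
  have hV : IsOpen V := m.isOpenMap _ (hW.preimage (Scheme.Hom.continuous _))
  obtain ⟨w, ⟨hwV, hwc⟩, hwcl⟩ := nonempty_inter_closedPoints (X := ↥(pT.fiber y)) (Z := V ∩ closure {m.base p})
    ⟨m.base p, ⟨p, show _ ∈ W by rw [hp]; exact hzW, rfl⟩, subset_closure rfl⟩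
    (hV.isLocallyClosed.inter isClosed_closure.isLocallyClosed)
  obtain ⟨p0, hp0W, rfl⟩ := hwV
  refine ⟨fun r hr hspec => ?_, (pullback.fst pX (X.fromSpecResidueField x)).base p0, hp0W, hxr p0, ?_, fun r hr hspec => ?_⟩
  · obtain ⟨r, rfl⟩ : r ∈ Set.range (pT.fiberι y).base := by rw [Scheme.Hom.range_fiberι]; exact hr
    rw [← hp, ← hmι] at hspec
    obtain ⟨p1, hp1W, rfl⟩ := ((pT.fiberι y).isEmbedding.isInducing.specializes_iff.1 hspec).mem_open hV
      ⟨p, show _ ∈ W by rw [hp]; exact hzW, rfl⟩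
    exact ⟨_, hp1W, (hmι p1).symm⟩
  · rw [← hp, ← hmι, ← hmι]
    exact (specializes_iff_mem_closure.2 hwc).map (Scheme.Hom.continuous _)
  · obtain ⟨r, rfl⟩ : r ∈ Set.range (pT.fiberι y).base := by rw [Scheme.Hom.range_fiberι]; exact hr
    rw [← hmι] at hspec ⊢
    have h1 := (pT.fiberι y).isEmbedding.isInducing.specializes_iff.1 hspec
    rw [h1.mem_closed (mem_closedPoints_iff.1 hwcl) rfl]

theorem univOpenAt_of_finiteOpen [IsNoetherian Y] (f : X ⟶ Y) [LocallyOfFiniteType f] (x : X)
    (H : FiniteOpen f x) : IsUnivOpenAt f x := by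
  refine univOpenAt_of_affineSpace f x fun n z hz U hU => ?_
  let σ := ULift.{u} (Fin n)
  let T := 𝔸(σ; Y)
  let pT : T ⟶ Y := 𝔸(σ; Y) ↘ Y
  let pX : 𝔸(σ; X) ⟶ X := 𝔸(σ; X) ↘ X
  let F : 𝔸(σ; X) ⟶ T := AffineSpace.map σ f
  have sq : IsPullback pX F f pT := (AffineSpace.isPullback_map (n := σ) f).flip
  haveI : LocallyOfFiniteType pT := inferInstanceAs (LocallyOfFiniteType (𝔸(σ; Y) ↘ Y))
  haveI : LocallyOfFiniteType F := MorphismProperty.of_isPullback sq ‹LocallyOfFiniteType f›
  haveI : IsLocallyNoetherian T := LocallyOfFiniteType.isLocallyNoetherian pT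
  haveI : CompactSpace T := QuasiCompact.compactSpace_of_compactSpace pT
  haveI : IsNoetherian T := ⟨⟩
  obtain ⟨U1, hU1U, hU1o, hzU1⟩ := mem_nhds_iff.1 hU
  obtain ⟨W, hW, hzW, hWU⟩ := exists_isAffineOpen_mem_and_subset (U := ⟨U1, hU1o⟩) hzU1
  refine Filter.mem_of_superset ?_ (Set.image_mono (hWU.trans hU1U))
  haveI : IsAffine W.toScheme := hW
  haveI : LocallyOfFinitePresentation (W.ι ≫ F) :=
    LocallyOfFinitePresentation.iff_locallyOfFiniteType.2 inferInstance
  have hS : IsConstructible (F.base '' (W : Set _)) := by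
    have h1 := (W.ι ≫ F).isConstructible_image (IsConstructible.univ)
    rwa [Set.image_univ, Scheme.Hom.comp_base, TopCat.coe_comp, Set.range_comp, Scheme.Opens.range_ι] at h1
  rw [mem_nhds_iff]
  refine ⟨interior (F.base '' W), interior_subset, isOpen_interior, ?_⟩
  rw [Groth.Agent.S3403.result T _ (ProConsLib.isIndConstructible_image F (by
    rw [ProConsLib.isIndConstructible_iff]
    intro U hU
    haveI := ProConsLib.spectralSpace_of_isAffineOpen hU
    exact SpectralLib.isOpen_C_of_isOpen (W.2.preimage continuous_subtype_val)))]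
  intro y'' hy''
  have hfz : pT.base (F.base z) = f.base x := by
    rw [← Scheme.Hom.comp_apply, ← sq.w, Scheme.Hom.comp_apply, hz]
  obtain ⟨hfib, z0, hz0W, hz0x, hz0sp, hz0cl⟩ := exists_closed_fibre_point x sq z hz W W.2 hzW
  have hy0 : pT.base (F.base z0) = f.base x := by
    rw [← Scheme.Hom.comp_apply, ← sq.w, Scheme.Hom.comp_apply, hz0x]
  by_contra hnot
  have hsp : y'' ⤳ F.base z0 := hy''.trans hz0sp
  have hty : pT.base y'' ≠ f.base x := by
    exact fun heq => hnot (hfib _ heq hy'')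
  obtain ⟨O, hO, hyO, hOE⟩ := exists_open_closure_inter_subset y'' _ hS.compl hnot
  obtain ⟨q, hq, hyq, hq0, himm⟩ := exists_immediate hsp (O ∩ (pT.base ⁻¹' closure {f.base x})ᶜ)
    (hO.inter (isClosed_closure.preimage pT.continuous).isOpen_compl)
    ⟨hyO, fun hc => hty ((specializes_iff_mem_closure.2 hc).antisymm (hy0 ▸ hsp.map pT.continuous)).symm.eq⟩
    (fun hc => hc.2 (subset_closure hy0))
  have hqS : q ∉ F.base '' W := hOE ⟨hq.1, specializes_iff_mem_closure.1 hyq⟩
  apply hqS
  let I := Scheme.IdealSheafData.vanishingIdeal (X := T) ⟨closure {q}, isClosed_closure⟩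
  let ι := I.subschemeι
  have hι : Set.range ι.base = closure {q} := by simp [ι, I]
  obtain ⟨c, hc⟩ : F.base z0 ∈ Set.range ι.base := by rw [hι]; exact specializes_iff_mem_closure.1 hq0
  haveI : CompactSpace I.subscheme := QuasiCompact.compactSpace_of_compactSpace ι
  haveI : IsLocallyNoetherian I.subscheme := LocallyOfFiniteType.isLocallyNoetherian (ι ≫ pT)
  haveI : IsNoetherian I.subscheme := ⟨⟩
  have hcy : (ι ≫ pT).base c = f.base x := by rw [Scheme.Hom.comp_apply, hc, hy0]
  have hqf : (ι ≫ pT).QuasiFiniteAt c := by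
    rw [Scheme.Hom.quasiFiniteAt_iff_isOpen_singleton_asFiber]
    let h := ι ≫ pT
    haveI : NoetherianSpace ↥(h.fiber (h.base c)) :=
      (h.fiberι _).isEmbedding.isInducing.noetherianSpace
    have hgen : ∀ w : ↥(h.fiber (h.base c)), (h.fiberι _).base w = c ∨ ¬ (h.fiberι _).base w ⤳ c := by
      intro w
      refine or_iff_not_imp_right.2 fun hwc => ι.isEmbedding.injective ?_
      rw [hc]
      have h1 : ι.base ((h.fiberι _).base w) ⤳ F.base z0 := hc ▸ (not_not.1 hwc).map ι.continuous
      rcases himm _ (specializes_iff_mem_closure.2 (hι ▸ ⟨_, rfl⟩)) h1 with heq | heq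
      · exfalso
        have h2 : (h.fiberι _).base w ∈ h.base ⁻¹' {h.base c} := (h.range_fiberι _).subset ⟨w, rfl⟩
        refine hq.2 (subset_closure ?_)
        show pT.base q = f.base x
        rw [← heq, ← Scheme.Hom.comp_apply]; exact h2.trans hcy
      · exact heq
    refine isOpen_singleton_of_generization _ ?_ fun w hw => ?_
    · refine closure_subset_iff_isClosed.1 fun w hw => ?_
      have h2 : h.base ((h.fiberι _).base w) = h.base c := (h.range_fiberι _).subset ⟨w, rfl⟩
      have h1 := ((specializes_iff_mem_closure.2 hw).map (h.fiberι _).continuous).map ι.continuous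
      rw [Scheme.Hom.fiberι_asFiber, hc] at h1
      refine (h.fiberι _).isEmbedding.injective (ι.isEmbedding.injective ?_)
      rw [Scheme.Hom.fiberι_asFiber, hc]
      exact hz0cl _ ((Scheme.Hom.comp_apply ι pT _).symm.trans (h2.trans hcy)) h1
    · refine (h.fiberι _).isEmbedding.injective ?_
      rw [Scheme.Hom.fiberι_asFiber]
      exact (hgen w).resolve_right fun hn => hn (by
        have := hw.map (h.fiberι _).continuous; rwa [Scheme.Hom.fiberι_asFiber] at this)
  obtain ⟨Wc, j, Y', g, e, hj, ⟨w, rfl⟩, hg, he, heg⟩ := FinExtend.exists_openImmersion_finite (ι ≫ pT) c hqf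
  haveI := hj; haveI := hg; haveI := he
  obtain ⟨wq, hwq⟩ : ∃ wq : Wc, (j ≫ ι).base wq = q := by
    obtain ⟨cq, hcq⟩ : q ∈ Set.range ι.base := by rw [hι]; exact subset_closure rfl
    have : cq ∈ Set.range j.base := (ι.isEmbedding.isInducing.specializes_iff.1
      (by rw [hcq, hc]; exact hq0)).mem_open j.isOpenEmbedding.isOpen_range ⟨w, rfl⟩
    obtain ⟨wq, rfl⟩ := this
    exact ⟨wq, by rw [Scheme.Hom.comp_apply]; exact hcq⟩
  have hwsp : wq ⤳ w := (j ≫ ι).isEmbedding.isInducing.specializes_iff.1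
    (by rw [hwq, Scheme.Hom.comp_apply, hc]; exact hq0)
  have sA := (IsPullback.of_hasPullback F (j ≫ ι)).paste_horiz sq
  have sB := IsPullback.of_hasPullback f g
  have hfac : (j ≫ ι) ≫ pT = e ≫ g := by rw [Category.assoc]; exact heg.symm
  rw [hfac] at sA
  have sR := IsPullback.of_right' sA sB
  obtain ⟨a, ha1, ha2⟩ := Scheme.Pullback.exists_preimage_pullback (f := F) (g := j ≫ ι) z0 w
    (by rw [Scheme.Hom.comp_apply]; exact hc.symm)
  set r := sB.lift (pullback.fst F (j ≫ ι) ≫ pX) (pullback.snd F (j ≫ ι) ≫ e) (sA.w.trans (Category.assoc _ _ _).symm) with hr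
  have hra : (pullback.snd f g).base (r.base a) = e.base w := by
    rw [← Scheme.Hom.comp_apply, IsPullback.lift_snd, Scheme.Hom.comp_apply, ha2]
  obtain ⟨b, hb, hbq⟩ := (Groth.Agent.S3404.result (pullback.snd f g) (r.base a)).1
    (H Y' g (r.base a) (by rw [← Scheme.Hom.comp_apply, IsPullback.lift_fst, Scheme.Hom.comp_apply, ha1, hz0x]))
    (e.base wq) (by rw [hra]; exact hwsp.map e.continuous)
  obtain ⟨a', ha'1, ha'2⟩ : ∃ a', r.base a' = b ∧ (pullback.snd F (j ≫ ι)).base a' = wq := by
    obtain ⟨a', h1, h2⟩ := Scheme.Pullback.exists_preimage_pullback (f := pullback.snd f g) (g := e) b wq hbq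
    refine ⟨sR.isoPullback.inv.base a', ?_, ?_⟩
    · rw [← Scheme.Hom.comp_apply, sR.isoPullback_inv_fst]; exact h1
    · rw [← Scheme.Hom.comp_apply, sR.isoPullback_inv_snd]; exact h2
  haveI : IsOpenImmersion r := MorphismProperty.of_isPullback sR.flip he
  have hsa : a' ⤳ a := r.isEmbedding.isInducing.specializes_iff.1 (ha'1 ▸ hb)
  refine ⟨(pullback.fst F (j ≫ ι)).base a', (ha1 ▸ hsa.map (Scheme.Hom.continuous _)).mem_open W.2 hz0W, ?_⟩
  rw [← Scheme.Hom.comp_apply, pullback.condition, Scheme.Hom.comp_apply, ha'2, hwq]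

end Groth.Agent.UnivOpenAtLib
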