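import Groth.Agent.UnivOpenAtLib.Basic
import Groth.Agent.AffTest.Basic

/-!
Universal openness at a point is tested on affine spaces.
-/

set_option autoImplicit false
universe u

open CategoryTheory CategoryTheory.Limits AlgebraicGeometry Topology

namespace Groth.Agent.UnivOpenAtLib

open EGA43

variable {X Y : Scheme.{u}}

theorem isOpenAt_of_inducing {X' T' X T : Scheme.{u}} {j : X' ⟶ X} {f' : X' ⟶ T'} {f : X ⟶ T} {i : T' ⟶ T}
    (h : IsPullback j f' f i) (hj : IsInducing j.base) (p : X') (hf : IsOpenAt f.base (j.base p)) :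
    IsOpenAt f'.base p := by
  intro U hU
  rw [hj.nhds_eq_comap] at hU
  obtain ⟨W, hW, hWU⟩ := Filter.mem_comap.1 hU
  refine Filter.mem_of_superset ?_ (Set.image_mono hWU)
  rw [Scheme.image_preimage_eq_of_isPullback h]
  refine i.continuous.continuousAt.preimage_mem_nhds ?_
  rw [← Scheme.Hom.comp_apply, ← h.w, Scheme.Hom.comp_apply]
  exact hf W hW

theorem isOpenAt_map_finite (f : X ⟶ Y) (x : X)
    (H : ∀ (n : ℕ) (z : 𝔸(ULift.{u} (Fin n); X)), (𝔸(ULift.{u} (Fin n); X) ↘ X).base z = x →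
      IsOpenAt (AffineSpace.map (ULift.{u} (Fin n)) f).base z)
    (m : Type u) [Finite m] (z : 𝔸(m; X)) (hz : (𝔸(m; X) ↘ X).base z = x) : IsOpenAt (AffineSpace.map m f).base z := by
  obtain ⟨n, ⟨e⟩⟩ := Finite.exists_equiv_fin m
  let e' : m ≃ ULift.{u} (Fin n) := e.trans Equiv.ulift.symm
  have h := AffTest.isPullback_reindex (e'.symm : ULift.{u} (Fin n) → m) f
  have hiso : IsIso (AffineSpace.reindex (e'.symm : ULift.{u} (Fin n) → m) X) := by
    refine ⟨AffineSpace.reindex (e' : m → ULift.{u} (Fin n)) X, ?_, ?_⟩ <;> ext1 <;> simp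
  refine isOpenAt_of_inducing h (Scheme.Hom.isEmbedding _).isInducing z (H n _ ?_)
  rw [← Scheme.Hom.comp_apply, AffineSpace.reindex_over]; exact hz

theorem isOpenAt_map_any (f : X ⟶ Y) (x : X)
    (H : ∀ (n : ℕ) (z : 𝔸(ULift.{u} (Fin n); X)), (𝔸(ULift.{u} (Fin n); X) ↘ X).base z = x →
      IsOpenAt (AffineSpace.map (ULift.{u} (Fin n)) f).base z)
    (σ : Type u) (z : 𝔸(σ; X)) (hz : (𝔸(σ; X) ↘ X).base z = x) : IsOpenAt (AffineSpace.map σ f).base z := by
  intro U hU
  obtain ⟨O, hOU, hO, hzO⟩ := mem_nhds_iff.1 hU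
  obtain ⟨s, W, hzW, hsub⟩ := AffTest.exists_finite_level O hO z hzO
  refine Filter.mem_of_superset ?_ (Set.image_mono (hsub.trans hOU))
  have h := AffTest.isPullback_reindex (Subtype.val : {x // x ∈ s} → σ) f
  rw [Scheme.image_preimage_eq_of_isPullback h]
  refine (Scheme.Hom.continuous _).continuousAt.preimage_mem_nhds ?_
  rw [← Scheme.Hom.comp_apply, ← h.w, Scheme.Hom.comp_apply]
  refine isOpenAt_map_finite f x H _ _ ?_ _ (W.isOpen.mem_nhds hzW)
  rw [← Scheme.Hom.comp_apply, AffineSpace.reindex_over]; exact hz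

theorem univOpenAt_of_affineSpace (f : X ⟶ Y) (x : X)
    (H : ∀ (n : ℕ) (z : 𝔸(ULift.{u} (Fin n); X)), (𝔸(ULift.{u} (Fin n); X) ↘ X).base z = x →
      IsOpenAt (AffineSpace.map (ULift.{u} (Fin n)) f).base z) :
    IsUnivOpenAt f x := by
  intro Y' g x' hx'
  obtain ⟨V, hV, hyV, -⟩ := exists_isAffineOpen_mem_and_subset (TopologicalSpace.Opens.mem_top ((pullback.snd f g).base x'))
  haveI : IsAffine V.toScheme := hV
  obtain ⟨v, hv⟩ : (pullback.snd f g).base x' ∈ Set.range V.ι.base := by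
    rw [Scheme.Opens.range_ι]; exact hyV
  obtain ⟨p, hp1, hp2⟩ := Scheme.Pullback.exists_preimage_pullback (f := pullback.snd f g) (g := V.ι) x' v hv.symm
  have sqB := IsPullback.of_hasPullback (pullback.snd f g) V.ι
  have sq := sqB.paste_horiz (IsPullback.of_hasPullback f g)
  obtain ⟨σ, j, hj, hjt⟩ := AffTest.exists_immersion_into_affineSpace (V.ι ≫ g)
  have h0 := AffineSpace.isPullback_map (n := σ) f
  let L := h0.lift (pullback.snd (pullback.snd f g) V.ι ≫ j) (pullback.fst (pullback.snd f g) V.ι ≫ pullback.fst f g)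
    (by rw [Category.assoc, hjt]; exact sq.w.symm)
  have hsq : IsPullback L (pullback.snd (pullback.snd f g) V.ι) (AffineSpace.map σ f) j := by
    refine IsPullback.of_right ?_ (h0.lift_fst _ _ _) h0.flip
    rw [IsPullback.lift_snd, hjt]
    exact sq
  haveI : IsImmersion L := MorphismProperty.of_isPullback hsq.flip hj
  have hL : (𝔸(σ; X) ↘ X).base (L.base p) = x := by
    rw [← Scheme.Hom.comp_apply, IsPullback.lift_snd, Scheme.Hom.comp_apply, hp1, hx']
  have h1 := isOpenAt_of_inducing hsq L.isEmbedding.isInducing p (isOpenAt_map_any f x H σ _ hL)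
  have h2 : IsOpenAt (V.ι.base ∘ (pullback.snd (pullback.snd f g) V.ι).base) p :=
    isOpenAt_comp h1 (fun U hU => V.ι.isOpenEmbedding.isOpenMap.image_mem_nhds hU)
  rw [← TopCat.coe_comp, ← Scheme.Hom.comp_base, ← sqB.w, Scheme.Hom.comp_base, TopCat.coe_comp] at h2
  have h3 := isOpenAt_of_comp (Scheme.Hom.continuous _).continuousAt h2
  rwa [hp1] at h3

end Groth.Agent.UnivOpenAtLib
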